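import Mathlib
import Groth.Prelude.Def_W4c5suslinpi1abAdj

/-!
# Identities between projection morphisms, exterior products and shriek products
-/

universe v u

open CategoryTheory MonoidalCategory Functor.LaxMonoidal Functor.OplaxMonoidal W4c5suslinpi1ab

namespace Groth.Agent.SuslinAdj

section One

variable {C : Type u} [Category.{v} C] [MonoidalCategory C]
variable {D : Type u} [Category.{v} D] [MonoidalCategory D]
variable {L : C ⥤ D} {R : D ⥤ C} (adj : L ⊣ R) [R.LaxMonoidal]

@[reassoc]
theorem projR_naturality_right (A : D) {B B' : C} (f : B ⟶ B') :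
    (R.obj A ◁ f) ≫ projR adj A B' = projR adj A B ≫ R.map (A ◁ L.map f) := by
  have h := adj.unit.naturality f
  dsimp at h
  unfold projR
  rw [← MonoidalCategory.whiskerLeft_comp_assoc, h, MonoidalCategory.whiskerLeft_comp_assoc,
    Category.assoc, μ_natural_right]

@[reassoc]
theorem projR_naturality_left {A A' : D} (f : A ⟶ A') (B : C) :
    (R.map f ▷ B) ≫ projR adj A' B = projR adj A B ≫ R.map (f ▷ L.obj B) := by
  unfold projR
  rw [← whisker_exchange_assoc, Category.assoc]
  dsimp
  rw [μ_natural_left]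

@[reassoc]
theorem projL_naturality_right (A : C) {B B' : D} (f : B ⟶ B') :
    (A ◁ R.map f) ≫ projL adj A B' = projL adj A B ≫ R.map (L.obj A ◁ f) := by
  unfold projL
  rw [whisker_exchange_assoc, Category.assoc]
  dsimp
  rw [μ_natural_right]

@[reassoc]
theorem projL_naturality_left {A A' : C} (f : A ⟶ A') (B : D) :
    (f ▷ R.obj B) ≫ projL adj A' B = projL adj A B ≫ R.map (L.map f ▷ B) := by
  have h := adj.unit.naturality f
  dsimp at h
  unfold projL
  rw [← MonoidalCategory.comp_whiskerRight_assoc, h, MonoidalCategory.comp_whiskerRight_assoc,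
    Category.assoc, μ_natural_left]

@[reassoc]
theorem map_cupShriek_counit {S : C ⥤ D} (adj' : R ⊣ S)
    [∀ (A : D) (B : C), IsIso (projR adj A B)] (A B : C) :
    R.map (cupShriek adj adj' A B) ≫ adj'.counit.app (A ⊗ B) =
      inv (projR adj (S.obj A) B) ≫ (adj'.counit.app A ▷ B) := by
  unfold cupShriek
  exact (Adjunction.homEquiv_counit adj' _ _ _).symm.trans ((adj'.homEquiv _ _).symm_apply_apply _)

@[reassoc]
theorem cupShriek_naturality_right {S : C ⥤ D} (adj' : R ⊣ S)
    [∀ (A : D) (B : C), IsIso (projR adj A B)] (A : C) {B B' : C} (f : B ⟶ B') :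
    (S.obj A ◁ L.map f) ≫ cupShriek adj adj' A B' =
      cupShriek adj adj' A B ≫ S.map (A ◁ f) := by
  unfold cupShriek
  rw [← adj'.homEquiv_naturality_left, ← adj'.homEquiv_naturality_right]
  congr 1
  rw [← cancel_epi (projR adj (S.obj A) B), Category.assoc, IsIso.hom_inv_id_assoc,
    ← projR_naturality_right_assoc, IsIso.hom_inv_id_assoc, whisker_exchange]
  rfl

variable [L.OplaxMonoidal] [adj.IsMonoidal]

@[reassoc]
theorem map_projR_counit (A : D) (B : C) :
    L.map (projR adj A B) ≫ adj.counit.app (A ⊗ L.obj B) =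
      δ L (R.obj A) B ≫ (adj.counit.app A ▷ L.obj B) := by
  unfold projR
  rw [Functor.map_comp, Category.assoc, adj.map_μ_comp_counit_app_tensor]
  dsimp
  rw [← δ_natural_right_assoc]
  congr 1
  rw [← id_tensorHom, tensorHom_comp_tensorHom, Category.id_comp, adj.left_triangle_components]
  exact tensorHom_id _ _

@[reassoc]
theorem map_projL_counit (A : C) (B : D) :
    L.map (projL adj A B) ≫ adj.counit.app (L.obj A ⊗ B) =
      δ L A (R.obj B) ≫ (L.obj A ◁ adj.counit.app B) := by
  unfold projL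
  rw [Functor.map_comp, Category.assoc, adj.map_μ_comp_counit_app_tensor]
  dsimp
  rw [← δ_natural_left_assoc]
  congr 1
  rw [← tensorHom_id, tensorHom_comp_tensorHom, Category.id_comp, adj.left_triangle_components]
  exact id_tensorHom _ _

end One

section Square

variable {S₀ : Type u} [Category.{v} S₀] [MonoidalCategory S₀]
variable {Y₁ : Type u} [Category.{v} Y₁] [MonoidalCategory Y₁]
variable {Y₂ : Type u} [Category.{v} Y₂] [MonoidalCategory Y₂]
variable {X : Type u} [Category.{v} X] [MonoidalCategory X]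
variable {fL : S₀ ⥤ Y₁} {fR : Y₁ ⥤ S₀} (adjf : fL ⊣ fR) [fR.LaxMonoidal] {gR : Y₂ ⥤ S₀}
variable {pL : Y₁ ⥤ X} {pR : X ⥤ Y₁} (adjp : pL ⊣ pR) [pR.LaxMonoidal]
variable {qL : Y₂ ⥤ X} {qR : X ⥤ Y₂} (adjq : qL ⊣ qR) (ν : qR ⋙ gR ⟶ pR ⋙ fR)

theorem extProd_naturality {A A' : Y₁} (a : A ⟶ A') {B B' : Y₂} (b : B ⟶ B') :
    extProd adjf adjp adjq ν A B ≫ fR.map (pR.map (pL.map a ⊗ₘ qL.map b)) =
      (fR.map a ⊗ₘ gR.map b) ≫ extProd adjf adjp adjq ν A' B' := by
  have hb := (bcMor adjf adjq ν).naturality b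
  dsimp at hb
  unfold extProd
  simp only [Category.assoc]
  rw [MonoidalCategory.tensorHom_def (fR.map a), Category.assoc, projR_naturality_right_assoc, projR_naturality_left_assoc,
    MonoidalCategory.tensorHom_def (pL.map a), Functor.map_comp, Functor.map_comp]
  simp only [← Functor.map_comp]
  congr 2
  rw [← MonoidalCategory.whiskerLeft_comp_assoc, hb, MonoidalCategory.whiskerLeft_comp_assoc,
    projL_naturality_right, ← whisker_exchange_assoc, projL_naturality_left_assoc]
  rw [Functor.map_comp]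

variable {fS : S₀ ⥤ Y₁} (adjf' : fR ⊣ fS) {gS : S₀ ⥤ Y₂} (adjg' : gR ⊣ gS)
  {pS : Y₁ ⥤ X} (adjp' : pR ⊣ pS)
  [∀ (A : Y₁) (B : S₀), IsIso (projR adjf A B)]
  [∀ (A : Y₁) (B : X), IsIso (projL adjp A B)]
  [∀ B : Y₂, IsIso ((bcMor adjf adjq ν).app B)]

theorem isIso_extProd (A : Y₁) (B : Y₂) : IsIso (extProd adjf adjp adjq ν A B) := by
  unfold extProd
  infer_instance

theorem map_prodShriek_counit (A B : S₀) :
    pR.map (prodShriek adjf adjf' adjg' adjp adjp' adjq ν A B) ≫
        adjp'.counit.app (fS.obj (A ⊗ B)) =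
      inv (projL adjp (fS.obj A) (qL.obj (gS.obj B))) ≫
        (fS.obj A ◁ inv ((bcMor adjf adjq ν).app (gS.obj B))) ≫
        cupShriek adjf adjf' A (gR.obj (gS.obj B)) ≫ fS.map (A ◁ adjg'.counit.app B) := by
  unfold prodShriek
  exact (Adjunction.homEquiv_counit adjp' _ _ _).symm.trans ((adjp'.homEquiv _ _).symm_apply_apply _)

theorem extProd_map_prodShriek (A B : S₀) :
    extProd adjf adjp adjq ν (fS.obj A) (gS.obj B) ≫
        fR.map (pR.map (prodShriek adjf adjf' adjg' adjp adjp' adjq ν A B)) ≫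
          fR.map (adjp'.counit.app (fS.obj (A ⊗ B))) =
      projR adjf (fS.obj A) (gR.obj (gS.obj B)) ≫
        fR.map (cupShriek adjf adjf' A (gR.obj (gS.obj B))) ≫
          fR.map (fS.map (A ◁ adjg'.counit.app B)) := by
  rw [← fR.map_comp, map_prodShriek_counit]
  unfold extProd
  simp only [Functor.map_comp, Category.assoc]
  congr 1
  simp only [← Functor.map_comp]
  congr 1
  simp

theorem extProd_symm_prodShriek (A B : S₀) :
    extProd adjf adjp adjq ν (fS.obj A) (gS.obj B) ≫
      ((adjp'.comp adjf').homEquiv _ _).symm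
        (prodShriek adjf adjf' adjg' adjp adjp' adjq ν A B) =
      (adjf'.counit.app A ⊗ₘ adjg'.counit.app B) := by
  have h : ((adjp'.comp adjf').homEquiv _ _).symm
        (prodShriek adjf adjf' adjg' adjp adjp' adjq ν A B) =
      fR.map (pR.map (prodShriek adjf adjf' adjg' adjp adjp' adjq ν A B)) ≫
        fR.map (adjp'.counit.app (fS.obj (A ⊗ B))) ≫ adjf'.counit.app (A ⊗ B) := by
    rw [Adjunction.homEquiv_counit]
    simp [Adjunction.comp]
  rw [h, reassoc_of% (extProd_map_prodShriek adjf adjp adjq ν adjf' adjg' adjp' A B)]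
  have hn := adjf'.counit.naturality (A ◁ adjg'.counit.app B)
  dsimp at hn
  rw [hn, map_cupShriek_counit_assoc, IsIso.hom_inv_id_assoc, MonoidalCategory.tensorHom_def]
  rfl

end Square

end Groth.Agent.SuslinAdj
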